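import Groth.Agent.S2962
import Groth.Agent.SplitUniq26.Main
import Groth.Agent.SGA3cLib.CentralEqBasic
import Groth.Agent.AlgGrpLib.TorusExt
import Groth.Agent.Cochar26.Factor

/-! An inner automorphism of a pinned group fixing the simple root groups is trivial. -/

set_option linter.style.haveILetI false
set_option autoImplicit false
set_option backward.isDefEq.respectTransparency.types false
set_option maxHeartbeats 1000000
set_option synthInstance.maxHeartbeats 200000

universe u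

open CategoryTheory CategoryTheory.Limits MonoidalCategory CartesianMonoidalCategory MonObj GrpObj AlgebraicGeometry
open RedX

noncomputable section

namespace Groth.Agent.PinAut26

open SGA3cLib HopfLib.SpPoints

variable {S : Scheme.{u}} {G : Over S} [GrpObj G]

/-- The points commuting with the torus of a splitting lie in the torus. -/
theorem exists_lift (D : Red.SplitRed G) (X : Over S) (g : X ⟶ G)
    (hg : ∀ (X' : Over S) (x : X' ⟶ X) (t : X' ⟶ D.T), (x ≫ g) * (t ≫ D.i) = (t ≫ D.i) * (x ≫ g)) :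
    ∃ t : X ⟶ D.T, t ≫ D.i = g := by
  haveI := D.maximalTorus.1
  haveI := D.maximalTorus.2.1
  haveI := D.reductive.1
  haveI := D.reductive.2.1
  have hTm := Groth.Agent.MultExt26.isMultTypeFT_of_torus D.T D.maximalTorus.2.2.1
  obtain ⟨Z, _, z, hz, -, hzs⟩ := Groth.Agent.S19142.result D.T G
    (Groth.Agent.SGA3cLib.CentralFib.locally_of_multTypeFT hTm) inferInstance inferInstance D.i
  haveI := hz.1
  haveI := hz.2.1
  obtain ⟨f, hf⟩ := (hz.2.2 D.T D.i).2 fun X' x y => by
    rw [← MonObj.mul_comp, ← MonObj.mul_comp, Groth.Agent.SGA3cLib.torus_mul_comm D.maximalTorus.2.2.1]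
  have hgeoT : ∀ s : S, IsIso ((Over.pullback (Red.geomPt s)).map f) := fun s => by
    let p := Red.geomPt s
    haveI : (Over.pullback p).IsRightAdjoint := (Over.mapPullbackAdj _).isRightAdjoint
    haveI : Mono ((Over.pullback p).map D.i) := inferInstance
    haveI : Mono ((Over.pullback p).map z) := inferInstance
    have hKK := Groth.Agent.Luna12.isCentralizerOf_self (D.reductive.2.2 s)
      (Groth.Agent.HMTor29.MaxTorus.isMaxTorus (Groth.Agent.MaxTorus26.isMaximalTorus_geom D.maximalTorus s))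
    have hcomm := (hz.2.2 Z z).1 ⟨𝟙 Z, Category.id_comp z⟩
    obtain ⟨w, hw⟩ := (hKK.2.2 _ ((Over.pullback p).map z)).2 fun X' x y => by
      obtain ⟨a, rfl⟩ := (Groth.Agent.SGA3cLib.BCPoints.pt p Z X').surjective x
      obtain ⟨b, rfl⟩ := (Groth.Agent.SGA3cLib.BCPoints.pt p D.T X').surjective y
      rw [← Groth.Agent.SGA3cLib.BCPoints.pt_comp, ← Groth.Agent.SGA3cLib.BCPoints.pt_comp]
      have h1 := congrArg (Groth.Agent.SGA3cLib.BCPoints.pt p G X') (hcomm _ a b)
      rwa [Groth.Agent.SGA3cLib.BCPoints.pt_mul, Groth.Agent.SGA3cLib.BCPoints.pt_mul] at h1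
    refine ⟨w, ?_, ?_⟩
    · rw [← cancel_mono ((Over.pullback p).map D.i), Category.assoc, hw, ← Functor.map_comp, hf, Category.id_comp]
    · rw [← cancel_mono ((Over.pullback p).map z), Category.assoc, ← Functor.map_comp, hf, hw, Category.id_comp]
  haveI : IsIso f.left := by
    haveI := hzs
    haveI : LocallyOfFinitePresentation Z.hom := inferInstance
    haveI : LocallyOfFinitePresentation (f.left ≫ Z.hom) := by
      rw [Over.w]; exact Groth.Agent.SGA3cLib.TrivLocus.locallyOfFinitePresentation_of_multTypeFT _ hTm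
    haveI : Flat (f.left ≫ Z.hom) := by
      rw [Over.w]; exact Groth.Agent.IsoTriv.ExtensionMT.flat_of_multTypeFT D.T hTm
    exact (Groth.Agent.FlatMor12.isIso_iff_fibres f.left Z.hom).2 fun s => by
      haveI := hgeoT s
      exact Groth.Agent.MaxCent26.isIso_fibre f s
  haveI : IsIso ((Over.forget S).map f) := ‹IsIso f.left›
  haveI : IsIso f := isIso_of_reflects_iso f (Over.forget S)
  obtain ⟨w, hw⟩ := (hz.2.2 X g).2 hg
  exact ⟨w ≫ inv f, by rw [← hf, Category.assoc, IsIso.inv_hom_id_assoc, hw]⟩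

theorem isMonHom_cj (g : 𝟙_ (Over S) ⟶ G) : IsMonHom (SplitUniq26.cj g) :=
  BCPoints.isMonHom_of_mul _ fun X x y => by
    rw [SplitUniq26.comp_cj, SplitUniq26.comp_cj, SplitUniq26.comp_cj]
    group

/-- An endomorphism of the split torus inducing the identity on every geometric fibre is the identity. -/
theorem eq_id_of_fibres (M : Type) [AddCommGroup M] [AddGroup.FG M] (ρ : Red.DS S M ⟶ Red.DS S M) [IsMonHom ρ]
    (h : ∀ s : S, (Over.pullback (Red.geomPt s)).map ρ = 𝟙 _) : ρ = 𝟙 _ := by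
  choose V φ hV hp using fun s => DSHom.exists_eq_DSmap ρ s
  have hφ : ∀ s, φ s = AddMonoidHom.id M := fun s => by
    let ω := Red.geomPt s
    let X' := Red.bc ω (Red.DS S M)
    let p := (BCPoints.pt ω (Red.DS S M) X').symm (𝟙 _)
    have hr : Set.range ((Over.map ω).obj X').hom.base ⊆ (V s : Set S) := by
      rintro _ ⟨y, rfl⟩
      show ω.base (X'.hom.base y) ∈ V s
      rw [show ω.base (X'.hom.base y) = s from
        Set.mem_singleton_iff.1 ((Scheme.range_fromSpecResidueField s).subset ⟨_, rfl⟩)]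
      exact hV s
    have h1 := congrArg (BCPoints.pt ω (Red.DS S M) X') (hp s _ hr p)
    rw [BCPoints.pt_comp, BCPoints.pt_comp] at h1
    simp only [p, Equiv.apply_symm_apply, Category.id_comp] at h1
    obtain ⟨c, -, hc⟩ := CentralEq.exists_bc_DS ω
    have h2 := hc M M (φ s)
    rw [← h1, h s, Category.id_comp] at h2
    apply Cochar26.DSmap_injective (U := Spec (CommRingCat.of (AlgebraicClosure (S.residueField s))))
    rw [Cochar26.DSmap_id]
    exact (cancel_epi (c M).hom).1 (h2.symm.trans (Category.comp_id _).symm)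
  apply Over.OverMorphism.ext
  let U : S → (Red.DS S M).left.Opens := fun s => (Red.DS S M).hom ⁻¹ᵁ V s
  refine Scheme.Cover.hom_ext ((Red.DS S M).left.openCoverOfIsOpenCover U (TopologicalSpace.IsOpenCover.mk
    (TopologicalSpace.Opens.ext (Set.eq_univ_of_forall fun y => by
      simp only [TopologicalSpace.Opens.coe_iSup, Set.mem_iUnion]
      exact ⟨_, hV ((Red.DS S M).hom.base y)⟩)))) _ _ fun s => ?_
  let W : Over S := Over.mk ((U s).ι ≫ (Red.DS S M).hom)
  let p : W ⟶ Red.DS S M := Over.homMk (U s).ι rfl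
  have h1 := hp s W (by rintro _ ⟨y, rfl⟩; exact y.2) p
  rw [hφ s, Cochar26.DSmap_id, Category.comp_id] at h1
  show (U s).ι ≫ ρ.left = (U s).ι ≫ 𝟙 _
  rw [Category.comp_id]
  exact congrArg CommaMorphism.left h1

/-- The inner automorphism of the torus is the identity on each geometric fibre. -/
theorem fibre_eq_id (D : Red.SplitRed G) (g : 𝟙_ (Over S) ⟶ G) (τ : D.T ⟶ D.T) [IsMonHom τ]
    (hτ : D.i ≫ SplitUniq26.cj g = τ ≫ D.i) (Q : AddSubgroup D.M)
    (hfix : ∀ m ∈ Q, D.split.inv.hom.hom ≫ τ ≫ D.split.hom.hom.hom ≫ Red.chi S m = Red.chi S m)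
    (hmod : Red.DSmap S (QuotientAddGroup.mk' Q) ≫ D.split.inv.hom.hom ≫ τ ≫ D.split.hom.hom.hom =
      Red.DSmap S (QuotientAddGroup.mk' Q)) (s : S) :
    (Over.pullback (Red.geomPt s)).map (D.split.inv.hom.hom ≫ τ ≫ D.split.hom.hom.hom) = 𝟙 _ := by
  classical
  let K := AlgebraicClosure (S.residueField s)
  let ω : Spec (CommRingCat.of K) ⟶ S := Red.geomPt s
  let F := Over.pullback ω
  haveI : F.IsRightAdjoint := (Over.mapPullbackAdj _).isRightAdjoint
  haveI := D.maximalTorus.1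
  haveI := D.maximalTorus.2.1
  let ds : D.T ⟶ Red.DS S D.M := D.split.hom.hom.hom
  let ds' : Red.DS S D.M ⟶ D.T := D.split.inv.hom.hom
  haveI : IsMonHom ds' := D.split.inv.hom.isMonHom_hom
  haveI : IsMonHom ds := D.split.hom.hom.isMonHom_hom
  haveI : IsIso ds' := inferInstanceAs (IsIso ((Grp.forget (Over S)).map D.split.inv))
  have hds : ds ≫ ds' = 𝟙 _ := by
    show (D.split.hom ≫ D.split.inv).hom.hom = _
    rw [D.split.hom_inv_id]; rfl
  let ρ : Red.DS S D.M ⟶ Red.DS S D.M := ds' ≫ τ ≫ ds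
  haveI : AddGroup.FG D.M := Module.Finite.iff_addGroup_fg.1 inferInstance
  obtain ⟨c, hcm, hc⟩ := CentralEq.exists_bc_DS ω
  haveI := hcm D.M
  let ρK : Red.DS (Spec (CommRingCat.of K)) D.M ⟶ Red.DS (Spec (CommRingCat.of K)) D.M :=
    (c D.M).inv ≫ F.map ρ ≫ (c D.M).hom
  haveI : IsMonHom ρK := inferInstanceAs (IsMonHom ((c D.M).inv ≫ F.map ρ ≫ (c D.M).hom))
  obtain ⟨φ, hφ⟩ := AlgGrpLib.exists_eq_DSmap_field ρK
  have hFρ : F.map ρ ≫ (c D.M).hom = (c D.M).hom ≫ Red.DSmap _ φ := by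
    rw [← hφ]; simp [ρK]
  have hfix' : ∀ m ∈ Q, φ m = m := fun m hm => by
    let z : ℤ →+ D.M := zmultiplesHom D.M m
    have h1 : ρ ≫ Red.DSmap S z = Red.DSmap S z := by
      show (ds' ≫ τ ≫ ds) ≫ Red.chi S m = Red.chi S m
      simpa only [Category.assoc] using hfix m hm
    have h2 : (c D.M).hom ≫ Red.DSmap _ φ ≫ Red.DSmap _ z = (c D.M).hom ≫ Red.DSmap _ z := by
      rw [← Category.assoc, ← hFρ, Category.assoc, ← hc D.M ℤ z, ← Category.assoc, ← F.map_comp, h1]
    rw [cancel_epi, Cochar26.DSmap_comp] at h2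
    have h3 := DFunLike.congr_fun (Cochar26.DSmap_injective h2) (1 : ℤ)
    simpa [z] using h3
  have hmod' : ∀ m, φ m - m ∈ Q := fun m => by
    let π := QuotientAddGroup.mk' Q
    have h1 : Red.DSmap S π ≫ ρ = Red.DSmap S π := hmod
    have h2 : (c (D.M ⧸ Q)).hom ≫ Red.DSmap _ π ≫ Red.DSmap _ φ = (c (D.M ⧸ Q)).hom ≫ Red.DSmap _ π := by
      rw [← Category.assoc, ← hc (D.M ⧸ Q) D.M π, Category.assoc, ← hFρ, ← Category.assoc, ← F.map_comp, h1]
    rw [cancel_epi, Cochar26.DSmap_comp] at h2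
    exact QuotientAddGroup.eq_iff_sub_mem.1 (DFunLike.congr_fun (Cochar26.DSmap_injective h2) m)
  have hinj : Function.Injective φ := (injective_iff_map_eq_zero φ).2 fun m hm => by
    have h1 := hmod' m
    rw [hm, zero_sub, neg_mem_iff] at h1
    rw [← hfix' m h1, hm]
  have hGr := D.reductive.2.2 s
  haveI : IsAffine (Red.bc ω G).left := hGr.1
  haveI : Smooth (Red.bc ω G).hom := hGr.2.1
  obtain ⟨A, _, _, ⟨e⟩⟩ := Misc15.AffinePoints.exists_sp (Red.bc ω G)
  haveI := SplitUniq26.smooth_alg e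
  haveI : Algebra.FiniteType K A := inferInstance
  haveI : IsMonHom (ds' ≫ D.i) := inferInstance
  haveI : Mono (ds' ≫ D.i) := mono_comp _ _
  let j : Red.DS (Spec (CommRingCat.of K)) D.M ⟶ Red.bc ω G := (c D.M).inv ≫ F.map (ds' ≫ D.i)
  haveI : IsMonHom j := inferInstanceAs (IsMonHom ((c D.M).inv ≫ F.map (ds' ≫ D.i)))
  haveI : Mono j := mono_comp _ _
  let P := 𝟙_ (Over (Spec (CommRingCat.of K)))
  let gK : P ⟶ Red.bc ω G := BCPoints.pt ω G P (toUnit ((Over.map ω).obj P) ≫ g)
  have hact : SplitUniq26.ActsBy j gK φ := fun t => by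
    refine ⟨t ≫ Red.DSmap _ φ, ?_, fun m => SplitUniq26.χ_DSmap φ t m⟩
    obtain ⟨a, ha⟩ := (BCPoints.pt ω (Red.DS S D.M) P).surjective (t ≫ (c D.M).inv)
    have e1 : t ≫ j = BCPoints.pt ω G P (a ≫ ds' ≫ D.i) := by
      rw [BCPoints.pt_comp, ha, Category.assoc]
    have e2 : (t ≫ Red.DSmap _ φ) ≫ j = BCPoints.pt ω G P (a ≫ ρ ≫ ds' ≫ D.i) := by
      rw [BCPoints.pt_comp, ha, F.map_comp ρ, ← hφ]
      simp [j, ρK]
    rw [e1, e2, ← BCPoints.pt_mul, ← BCPoints.pt_mul]
    congr 1
    have e3 := SplitUniq26.comp_cj g (a ≫ ds' ≫ D.i)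
    rw [Category.assoc, Category.assoc, hτ] at e3
    rw [eq_mul_inv_iff_mul_eq] at e3
    rw [← e3]
    simp only [ρ, Category.assoc]
    rw [← Category.assoc ds, hds, Category.id_comp]
  obtain ⟨n, hn, hiter⟩ := SplitUniq26.exists_iterate_eq e j gK φ hinj hact
  have hid : φ = AddMonoidHom.id D.M := AddMonoidHom.ext fun m => by
    let δ := φ m - m
    have hit : ∀ k : ℕ, φ^[k] m = m + k • δ := by
      intro k
      induction k with
      | zero => simp
      | succ k ih =>
        rw [Function.iterate_succ_apply', ih, map_add, map_nsmul, hfix' δ (hmod' m), succ_nsmul]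
        simp only [δ]
        abel
    have h1 := (hit n).symm.trans (hiter m)
    have h2 : n • δ = 0 := add_eq_left.1 h1
    rw [← natCast_zsmul, smul_eq_zero] at h2
    exact sub_eq_zero.1 (h2.resolve_left (by exact_mod_cast hn.ne'))
  rw [hid, Cochar26.DSmap_id, Category.comp_id] at hFρ
  exact (cancel_mono (c D.M).hom).1 (hFρ.trans (Category.id_comp _).symm)

end Groth.Agent.PinAut26
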